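import Mathlib

set_option autoImplicit false

namespace Cfsg.Agent.Lib.Helper90.GI

open Matrix
open scoped MatrixGroups

variable {F : Type*} [Field F]

/-- the intertwining relation as a submonoid of the product. -/
def absS {ι κ : Type*} [Fintype ι] [DecidableEq ι] [Fintype κ] [DecidableEq κ]
    (Dm : κ → Matrix ι ι F) : Submonoid (GL ι F × GL κ F) where
  carrier := {p | ∀ c, (p.1 : Matrix ι ι F) * Dm c =
    (∑ row, (p.2 : Matrix κ κ F) row c • Dm row) * (p.1 : Matrix ι ι F)}
  one_mem' := by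
    intro c
    simp [Matrix.one_apply, ite_smul]
  mul_mem' := by
    rintro ⟨a, b⟩ ⟨a', b'⟩ h h' c
    have h1 : ∀ c, (a : Matrix ι ι F) * Dm c =
      (∑ row, (b : Matrix κ κ F) row c • Dm row) * (a : Matrix ι ι F) := h
    have h2 : ∀ c, (a' : Matrix ι ι F) * Dm c =
      (∑ row, (b' : Matrix κ κ F) row c • Dm row) * (a' : Matrix ι ι F) := h'
    show ((a * a' : GL ι F) : Matrix ι ι F) * Dm c =
      (∑ row, ((b * b' : GL κ F) : Matrix κ κ F) row c • Dm row) * ((a * a' : GL ι F) : Matrix ι ι F)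
    rw [Units.val_mul, Units.val_mul]
    calc (a : Matrix ι ι F) * (a' : Matrix ι ι F) * Dm c
        = (a : Matrix ι ι F) * ((∑ row, (b' : Matrix κ κ F) row c • Dm row) * (a' : Matrix ι ι F)) := by
          rw [mul_assoc, h2 c]
      _ = (∑ row, (b' : Matrix κ κ F) row c • ((a : Matrix ι ι F) * Dm row)) * (a' : Matrix ι ι F) := by
          rw [← mul_assoc, Finset.mul_sum]
          simp only [mul_smul_comm]
      _ = (∑ row, (b' : Matrix κ κ F) row c •
            ((∑ row', (b : Matrix κ κ F) row' row • Dm row') * (a : Matrix ι ι F))) * (a' : Matrix ι ι F) := by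
          simp only [h1]
      _ = (∑ row, ((b : Matrix κ κ F) * (b' : Matrix κ κ F)) row c • Dm row) *
            ((a : Matrix ι ι F) * (a' : Matrix ι ι F)) := by
          rw [← mul_assoc]
          congr 1
          simp only [← smul_mul_assoc]
          rw [← Finset.sum_mul]
          congr 1
          simp only [Finset.smul_sum, Matrix.mul_apply, Finset.sum_smul, smul_smul]
          rw [Finset.sum_comm]
          exact Finset.sum_congr rfl (fun _ _ => Finset.sum_congr rfl (fun _ _ => by rw [mul_comm]))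

/-- the same as a subgroup (finite case). -/
def absG {ι κ : Type*} [Fintype ι] [DecidableEq ι] [Fintype κ] [DecidableEq κ] [Finite F]
    (Dm : κ → Matrix ι ι F) : Subgroup (GL ι F × GL κ F) where
  toSubmonoid := absS Dm
  inv_mem' := by
    intro x hx
    haveI : Fintype F := Fintype.ofFinite F
    have h : x⁻¹ = x ^ (orderOf x - 1) := by
      apply inv_eq_of_mul_eq_one_right
      rw [← pow_succ', Nat.sub_add_cancel (orderOf_pos x), pow_orderOf_eq_one]
    rw [h]
    exact (absS Dm).pow_mem hx _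

/-- [ABS]  PURE MATHLIB: the graph subgroup argument. -/
theorem abs_iso {ι κ R : Type*} [Fintype ι] [DecidableEq ι] [Fintype κ] [DecidableEq κ] [Finite F]
    (Dm : κ → Matrix ι ι F) (hli : LinearIndependent F Dm)
    (u : R → F → GL ι F) (X : R → F → Matrix κ κ F)
    (hint : ∀ r t c, (u r t : Matrix ι ι F) * Dm c =
      (∑ row, X r t row c • Dm row) * (u r t : Matrix ι ι F))
    (A : Subgroup (GL ι F)) (hu : ∀ r t, u r t ∈ A)
    (B : Subgroup (GL κ F)) (hB : B = Subgroup.closure {g : GL κ F | ∃ r t, (g : Matrix κ κ F) = X r t})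
    (hcard : Nat.card A = Nat.card B) : Nonempty (A ≃* B) := by
  classical
  haveI : Fintype F := Fintype.ofFinite F
  obtain ⟨gens, hgens⟩ : ∃ gens : Set (GL ι F × GL κ F),
      gens = {p | ∃ r t, p.1 = u r t ∧ (p.2 : Matrix κ κ F) = X r t} := ⟨_, rfl⟩
  obtain ⟨R0, hR0⟩ : ∃ R0 : Subgroup (GL ι F × GL κ F), R0 = Subgroup.closure gens := ⟨_, rfl⟩
  have hle : R0 ≤ absG Dm ⊓ A.prod B := by
    rw [hR0, Subgroup.closure_le]
    intro p hp
    rw [hgens] at hp
    obtain ⟨r, t, h1, h2⟩ := hp
    refine ⟨?_, ?_, ?_⟩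
    · intro c
      rw [h1, h2]
      exact hint r t c
    · show p.1 ∈ A
      rw [h1]; exact hu r t
    · show p.2 ∈ B
      rw [hB]
      exact Subgroup.subset_closure ⟨r, t, h2⟩
  have hP : ∀ p ∈ R0, ∀ c, (p.1 : Matrix ι ι F) * Dm c =
      (∑ row, (p.2 : Matrix κ κ F) row c • Dm row) * (p.1 : Matrix ι ι F) := fun p hp => (hle hp).1
  have hA : ∀ p ∈ R0, p.1 ∈ A := fun p hp => (hle hp).2.1
  have hBm : ∀ p ∈ R0, p.2 ∈ B := fun p hp => (hle hp).2.2
  let π1 : R0 →* A :=
    { toFun := fun p => ⟨p.1.1, hA p.1 p.2⟩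
      map_one' := rfl
      map_mul' := fun _ _ => rfl }
  let π2 : R0 →* B :=
    { toFun := fun p => ⟨p.1.2, hBm p.1 p.2⟩
      map_one' := rfl
      map_mul' := fun _ _ => rfl }
  have hinj : Function.Injective π1 := by
    rw [injective_iff_map_eq_one]
    rintro ⟨⟨a, b⟩, hp⟩ h
    have ha : a = 1 := congrArg Subtype.val h
    subst ha
    have hb : b = 1 := by
      apply Units.ext
      ext row c
      have h1 := hP _ hp c
      simp only [Units.val_one, one_mul, mul_one] at h1
      have h2 : ∑ row, ((b : Matrix κ κ F) row c - (1 : Matrix κ κ F) row c) • Dm row = 0 := by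
        simp only [sub_smul, Finset.sum_sub_distrib]
        rw [← h1]
        simp [Matrix.one_apply, ite_smul]
      have h3 := Fintype.linearIndependent_iff.1 hli _ h2 row
      rw [Units.val_one]
      exact sub_eq_zero.1 h3
    subst hb
    rfl
  have hsurj : Function.Surjective π2 := by
    have hmap : R0.map (MonoidHom.snd (GL ι F) (GL κ F)) = B := by
      rw [hR0, MonoidHom.map_closure, hB]
      congr 1
      ext g
      constructor
      · rintro ⟨p, hp, rfl⟩
        rw [hgens] at hp
        obtain ⟨r, t, _, h2⟩ := hp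
        exact ⟨r, t, h2⟩
      · rintro ⟨r, t, h⟩
        refine ⟨(u r t, g), ?_, rfl⟩
        rw [hgens]
        exact ⟨r, t, rfl, h⟩
    rintro ⟨b, hb⟩
    rw [← hmap] at hb
    obtain ⟨p, hp, rfl⟩ := hb
    exact ⟨⟨p, hp⟩, rfl⟩
  have hc1 : Nat.card R0 ≤ Nat.card A := Nat.card_le_card_of_injective _ hinj
  have hc2 : Nat.card B ≤ Nat.card R0 := Nat.card_le_card_of_surjective _ hsurj
  have hb1 : Function.Bijective π1 := hinj.bijective_of_nat_card_le (by omega)
  have hb2 : Function.Bijective π2 := hsurj.bijective_of_nat_card_le (by omega)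
  exact ⟨(MulEquiv.ofBijective π1 hb1).symm.trans (MulEquiv.ofBijective π2 hb2)⟩

end Cfsg.Agent.Lib.Helper90.GI
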