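import Cfsg.Agent.Lib.Helper90.GI.Defs

set_option autoImplicit false

namespace Cfsg.Agent.Lib.Helper90.GI

open Cfsg.Lie Matrix

variable {F : Type*} [Field F]

theorem aut_mv (A B : Matrix (Fin 8) (Fin 8) ℤ) (t : F) (x : Fin 8 → F) (i : Fin 8) :
    ((1 + t • cM A + t ^ 2 • cM B : Matrix (Fin 8) (Fin 8) F) *ᵥ x) i =
      x i + t * ∑ j, ((A i j : ℤ) : F) * x j + t ^ 2 * ∑ j, ((B i j : ℤ) : F) * x j := by
  rw [Matrix.add_mulVec, Matrix.add_mulVec, Matrix.one_mulVec, Matrix.smul_mulVec,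
    Matrix.smul_mulVec]
  simp only [Pi.add_apply, Pi.smul_apply, smul_eq_mul]
  rfl

theorem aut_zorn (x y : Fin 8 → F) : zornMul x y =
    ![x 0 * y 0 + (x 1 * y 4 + x 2 * y 5 + x 3 * y 6),
      x 0 * y 1 + y 7 * x 1 - (x 5 * y 6 - x 6 * y 5),
      x 0 * y 2 + y 7 * x 2 - (x 6 * y 4 - x 4 * y 6),
      x 0 * y 3 + y 7 * x 3 - (x 4 * y 5 - x 5 * y 4),
      y 0 * x 4 + x 7 * y 4 + (x 2 * y 3 - x 3 * y 2),
      y 0 * x 5 + x 7 * y 5 + (x 3 * y 1 - x 1 * y 3),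
      y 0 * x 6 + x 7 * y 6 + (x 1 * y 2 - x 2 * y 1),
      (x 4 * y 1 + x 5 * y 2 + x 6 * y 3) + x 7 * y 7] := by
  ext i
  fin_cases i <;> simp [zornMul, dot3, cross3]

theorem aut_mv0 (t : F) (x : Fin 8 → F) :
    ((1 + t • cM (U1z 0) + t ^ 2 • cM (U2z 0) : Matrix (Fin 8) (Fin 8) F) *ᵥ x) =
    ![x 0,
      x 1,
      x 2,
      x 3 - t * x 1,
      x 4 + t * x 6,
      x 5,
      x 6,
      x 7] := by
  ext i
  rw [aut_mv]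
  fin_cases i <;> simp [U1z, U2z, Fin.sum_univ_succ] <;> ring

theorem aut_case0 (t : F) (x y : Fin 8 → F) :
    ((1 + t • cM (U1z 0) + t ^ 2 • cM (U2z 0) : Matrix (Fin 8) (Fin 8) F) *ᵥ zornMul x y) =
      zornMul ((1 + t • cM (U1z 0) + t ^ 2 • cM (U2z 0) : Matrix (Fin 8) (Fin 8) F) *ᵥ x)
        ((1 + t • cM (U1z 0) + t ^ 2 • cM (U2z 0) : Matrix (Fin 8) (Fin 8) F) *ᵥ y) := by
  rw [aut_mv0, aut_mv0, aut_mv0, aut_zorn, aut_zorn]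
  ext i
  fin_cases i <;> simp <;> ring

theorem aut_mv1 (t : F) (x : Fin 8 → F) :
    ((1 + t • cM (U1z 1) + t ^ 2 • cM (U2z 1) : Matrix (Fin 8) (Fin 8) F) *ᵥ x) =
    ![x 0,
      x 1,
      x 2,
      x 3 - t * x 2,
      x 4,
      x 5 + t * x 6,
      x 6,
      x 7] := by
  ext i
  rw [aut_mv]
  fin_cases i <;> simp [U1z, U2z, Fin.sum_univ_succ] <;> ring

theorem aut_case1 (t : F) (x y : Fin 8 → F) :
    ((1 + t • cM (U1z 1) + t ^ 2 • cM (U2z 1) : Matrix (Fin 8) (Fin 8) F) *ᵥ zornMul x y) =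
      zornMul ((1 + t • cM (U1z 1) + t ^ 2 • cM (U2z 1) : Matrix (Fin 8) (Fin 8) F) *ᵥ x)
        ((1 + t • cM (U1z 1) + t ^ 2 • cM (U2z 1) : Matrix (Fin 8) (Fin 8) F) *ᵥ y) := by
  rw [aut_mv1, aut_mv1, aut_mv1, aut_zorn, aut_zorn]
  ext i
  fin_cases i <;> simp <;> ring

theorem aut_mv2 (t : F) (x : Fin 8 → F) :
    ((1 + t • cM (U1z 2) + t ^ 2 • cM (U2z 2) : Matrix (Fin 8) (Fin 8) F) *ᵥ x) =
    ![x 0 + t * x 6,
      x 1,
      x 2,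
      x 3 - t * x 0 + t * x 7 - t ^ 2 * x 6,
      x 4 + t * x 2,
      x 5 - t * x 1,
      x 6,
      x 7 - t * x 6] := by
  ext i
  rw [aut_mv]
  fin_cases i <;> simp [U1z, U2z, Fin.sum_univ_succ] <;> ring

theorem aut_case2 (t : F) (x y : Fin 8 → F) :
    ((1 + t • cM (U1z 2) + t ^ 2 • cM (U2z 2) : Matrix (Fin 8) (Fin 8) F) *ᵥ zornMul x y) =
      zornMul ((1 + t • cM (U1z 2) + t ^ 2 • cM (U2z 2) : Matrix (Fin 8) (Fin 8) F) *ᵥ x)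
        ((1 + t • cM (U1z 2) + t ^ 2 • cM (U2z 2) : Matrix (Fin 8) (Fin 8) F) *ᵥ y) := by
  rw [aut_mv2, aut_mv2, aut_mv2, aut_zorn, aut_zorn]
  ext i
  fin_cases i <;> simp <;> ring

theorem aut_mv3 (t : F) (x : Fin 8 → F) :
    ((1 + t • cM (U1z 3) + t ^ 2 • cM (U2z 3) : Matrix (Fin 8) (Fin 8) F) *ᵥ x) =
    ![x 0 + t * x 1,
      x 1,
      x 2 + t * x 6,
      x 3 - t * x 5,
      x 4 - t * x 0 + t * x 7 - t ^ 2 * x 1,
      x 5,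
      x 6,
      x 7 - t * x 1] := by
  ext i
  rw [aut_mv]
  fin_cases i <;> simp [U1z, U2z, Fin.sum_univ_succ] <;> ring

theorem aut_case3 (t : F) (x y : Fin 8 → F) :
    ((1 + t • cM (U1z 3) + t ^ 2 • cM (U2z 3) : Matrix (Fin 8) (Fin 8) F) *ᵥ zornMul x y) =
      zornMul ((1 + t • cM (U1z 3) + t ^ 2 • cM (U2z 3) : Matrix (Fin 8) (Fin 8) F) *ᵥ x)
        ((1 + t • cM (U1z 3) + t ^ 2 • cM (U2z 3) : Matrix (Fin 8) (Fin 8) F) *ᵥ y) := by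
  rw [aut_mv3, aut_mv3, aut_mv3, aut_zorn, aut_zorn]
  ext i
  fin_cases i <;> simp <;> ring

/-- [AUTA] -/
theorem uM_aut_a (r : R12) (hr : r.val < 4) (t : F) (x y : Fin 8 → F) :
    uM r t *ᵥ zornMul x y = zornMul (uM r t *ᵥ x) (uM r t *ᵥ y) := by
  obtain ⟨r, h⟩ := r
  simp only at *
  interval_cases r
  · exact aut_case0 t x y
  · exact aut_case1 t x y
  · exact aut_case2 t x y
  · exact aut_case3 t x y

end Cfsg.Agent.Lib.Helper90.GI
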