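import Cfsg.Agent.Lib.Helper90.GI.Defs
import Cfsg.Agent.Lib.Helper90.GI.AUTA
set_option autoImplicit false

namespace Cfsg.Agent.Lib.Helper90.GI

open Cfsg.Lie Matrix

variable {F : Type*} [Field F]

theorem aut_mv4 (t : F) (x : Fin 8 → F) :
    ((1 + t • cM (U1z 4) + t ^ 2 • cM (U2z 4) : Matrix (Fin 8) (Fin 8) F) *ᵥ x) =
    ![x 0 + t * x 2,
      x 1 - t * x 6,
      x 2,
      x 3 + t * x 4,
      x 4,
      x 5 - t * x 0 + t * x 7 - t ^ 2 * x 2,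
      x 6,
      x 7 - t * x 2] := by
  ext i
  rw [aut_mv]
  fin_cases i <;> simp [U1z, U2z, Fin.sum_univ_succ] <;> ring

theorem aut_case4 (t : F) (x y : Fin 8 → F) :
    ((1 + t • cM (U1z 4) + t ^ 2 • cM (U2z 4) : Matrix (Fin 8) (Fin 8) F) *ᵥ zornMul x y) =
      zornMul ((1 + t • cM (U1z 4) + t ^ 2 • cM (U2z 4) : Matrix (Fin 8) (Fin 8) F) *ᵥ x)
        ((1 + t • cM (U1z 4) + t ^ 2 • cM (U2z 4) : Matrix (Fin 8) (Fin 8) F) *ᵥ y) := by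
  rw [aut_mv4, aut_mv4, aut_mv4, aut_zorn, aut_zorn]
  ext i
  fin_cases i <;> simp <;> ring

theorem aut_mv5 (t : F) (x : Fin 8 → F) :
    ((1 + t • cM (U1z 5) + t ^ 2 • cM (U2z 5) : Matrix (Fin 8) (Fin 8) F) *ᵥ x) =
    ![x 0,
      x 1,
      x 2 + t * x 1,
      x 3,
      x 4 - t * x 5,
      x 5,
      x 6,
      x 7] := by
  ext i
  rw [aut_mv]
  fin_cases i <;> simp [U1z, U2z, Fin.sum_univ_succ] <;> ring

theorem aut_case5 (t : F) (x y : Fin 8 → F) :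
    ((1 + t • cM (U1z 5) + t ^ 2 • cM (U2z 5) : Matrix (Fin 8) (Fin 8) F) *ᵥ zornMul x y) =
      zornMul ((1 + t • cM (U1z 5) + t ^ 2 • cM (U2z 5) : Matrix (Fin 8) (Fin 8) F) *ᵥ x)
        ((1 + t • cM (U1z 5) + t ^ 2 • cM (U2z 5) : Matrix (Fin 8) (Fin 8) F) *ᵥ y) := by
  rw [aut_mv5, aut_mv5, aut_mv5, aut_zorn, aut_zorn]
  ext i
  fin_cases i <;> simp <;> ring

theorem aut_mv6 (t : F) (x : Fin 8 → F) :
    ((1 + t • cM (U1z 6) + t ^ 2 • cM (U2z 6) : Matrix (Fin 8) (Fin 8) F) *ᵥ x) =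
    ![x 0,
      x 1 + t * x 2,
      x 2,
      x 3,
      x 4,
      x 5 - t * x 4,
      x 6,
      x 7] := by
  ext i
  rw [aut_mv]
  fin_cases i <;> simp [U1z, U2z, Fin.sum_univ_succ] <;> ring

theorem aut_case6 (t : F) (x y : Fin 8 → F) :
    ((1 + t • cM (U1z 6) + t ^ 2 • cM (U2z 6) : Matrix (Fin 8) (Fin 8) F) *ᵥ zornMul x y) =
      zornMul ((1 + t • cM (U1z 6) + t ^ 2 • cM (U2z 6) : Matrix (Fin 8) (Fin 8) F) *ᵥ x)
        ((1 + t • cM (U1z 6) + t ^ 2 • cM (U2z 6) : Matrix (Fin 8) (Fin 8) F) *ᵥ y) := by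
  rw [aut_mv6, aut_mv6, aut_mv6, aut_zorn, aut_zorn]
  ext i
  fin_cases i <;> simp <;> ring

theorem aut_mv7 (t : F) (x : Fin 8 → F) :
    ((1 + t • cM (U1z 7) + t ^ 2 • cM (U2z 7) : Matrix (Fin 8) (Fin 8) F) *ᵥ x) =
    ![x 0 - t * x 5,
      x 1,
      x 2 + t * x 0 - t * x 7 - t ^ 2 * x 5,
      x 3,
      x 4 + t * x 3,
      x 5,
      x 6 - t * x 1,
      x 7 + t * x 5] := by
  ext i
  rw [aut_mv]
  fin_cases i <;> simp [U1z, U2z, Fin.sum_univ_succ] <;> ring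

theorem aut_case7 (t : F) (x y : Fin 8 → F) :
    ((1 + t • cM (U1z 7) + t ^ 2 • cM (U2z 7) : Matrix (Fin 8) (Fin 8) F) *ᵥ zornMul x y) =
      zornMul ((1 + t • cM (U1z 7) + t ^ 2 • cM (U2z 7) : Matrix (Fin 8) (Fin 8) F) *ᵥ x)
        ((1 + t • cM (U1z 7) + t ^ 2 • cM (U2z 7) : Matrix (Fin 8) (Fin 8) F) *ᵥ y) := by
  rw [aut_mv7, aut_mv7, aut_mv7, aut_zorn, aut_zorn]
  ext i
  fin_cases i <;> simp <;> ring

/-- [AUTB] -/
theorem uM_aut_b (r : R12) (hr : 4 ≤ r.val) (hr' : r.val < 8) (t : F) (x y : Fin 8 → F) :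
    uM r t *ᵥ zornMul x y = zornMul (uM r t *ᵥ x) (uM r t *ᵥ y) := by
  obtain ⟨r, h⟩ := r
  simp only at *
  interval_cases r
  · exact aut_case4 t x y
  · exact aut_case5 t x y
  · exact aut_case6 t x y
  · exact aut_case7 t x y

end Cfsg.Agent.Lib.Helper90.GI
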