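import Cfsg.Agent.Lib.Helper90.GI.Defs
import Cfsg.Agent.Lib.Helper90.GI.AUTA
set_option autoImplicit false

namespace Cfsg.Agent.Lib.Helper90.GI

open Cfsg.Lie Matrix

variable {F : Type*} [Field F]

theorem aut_mv8 (t : F) (x : Fin 8 → F) :
    ((1 + t • cM (U1z 8) + t ^ 2 • cM (U2z 8) : Matrix (Fin 8) (Fin 8) F) *ᵥ x) =
    ![x 0 - t * x 4,
      x 1 + t * x 0 - t * x 7 - t ^ 2 * x 4,
      x 2,
      x 3,
      x 4,
      x 5 - t * x 3,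
      x 6 + t * x 2,
      x 7 + t * x 4] := by
  ext i
  rw [aut_mv]
  fin_cases i <;> simp [U1z, U2z, Fin.sum_univ_succ] <;> ring

theorem aut_case8 (t : F) (x y : Fin 8 → F) :
    ((1 + t • cM (U1z 8) + t ^ 2 • cM (U2z 8) : Matrix (Fin 8) (Fin 8) F) *ᵥ zornMul x y) =
      zornMul ((1 + t • cM (U1z 8) + t ^ 2 • cM (U2z 8) : Matrix (Fin 8) (Fin 8) F) *ᵥ x)
        ((1 + t • cM (U1z 8) + t ^ 2 • cM (U2z 8) : Matrix (Fin 8) (Fin 8) F) *ᵥ y) := by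
  rw [aut_mv8, aut_mv8, aut_mv8, aut_zorn, aut_zorn]
  ext i
  fin_cases i <;> simp <;> ring

theorem aut_mv9 (t : F) (x : Fin 8 → F) :
    ((1 + t • cM (U1z 9) + t ^ 2 • cM (U2z 9) : Matrix (Fin 8) (Fin 8) F) *ᵥ x) =
    ![x 0 - t * x 3,
      x 1 - t * x 5,
      x 2 + t * x 4,
      x 3,
      x 4,
      x 5,
      x 6 + t * x 0 - t * x 7 - t ^ 2 * x 3,
      x 7 + t * x 3] := by
  ext i
  rw [aut_mv]
  fin_cases i <;> simp [U1z, U2z, Fin.sum_univ_succ] <;> ring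

theorem aut_case9 (t : F) (x y : Fin 8 → F) :
    ((1 + t • cM (U1z 9) + t ^ 2 • cM (U2z 9) : Matrix (Fin 8) (Fin 8) F) *ᵥ zornMul x y) =
      zornMul ((1 + t • cM (U1z 9) + t ^ 2 • cM (U2z 9) : Matrix (Fin 8) (Fin 8) F) *ᵥ x)
        ((1 + t • cM (U1z 9) + t ^ 2 • cM (U2z 9) : Matrix (Fin 8) (Fin 8) F) *ᵥ y) := by
  rw [aut_mv9, aut_mv9, aut_mv9, aut_zorn, aut_zorn]
  ext i
  fin_cases i <;> simp <;> ring

theorem aut_mv10 (t : F) (x : Fin 8 → F) :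
    ((1 + t • cM (U1z 10) + t ^ 2 • cM (U2z 10) : Matrix (Fin 8) (Fin 8) F) *ᵥ x) =
    ![x 0,
      x 1,
      x 2 - t * x 3,
      x 3,
      x 4,
      x 5,
      x 6 + t * x 5,
      x 7] := by
  ext i
  rw [aut_mv]
  fin_cases i <;> simp [U1z, U2z, Fin.sum_univ_succ] <;> ring

theorem aut_case10 (t : F) (x y : Fin 8 → F) :
    ((1 + t • cM (U1z 10) + t ^ 2 • cM (U2z 10) : Matrix (Fin 8) (Fin 8) F) *ᵥ zornMul x y) =
      zornMul ((1 + t • cM (U1z 10) + t ^ 2 • cM (U2z 10) : Matrix (Fin 8) (Fin 8) F) *ᵥ x)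
        ((1 + t • cM (U1z 10) + t ^ 2 • cM (U2z 10) : Matrix (Fin 8) (Fin 8) F) *ᵥ y) := by
  rw [aut_mv10, aut_mv10, aut_mv10, aut_zorn, aut_zorn]
  ext i
  fin_cases i <;> simp <;> ring

theorem aut_mv11 (t : F) (x : Fin 8 → F) :
    ((1 + t • cM (U1z 11) + t ^ 2 • cM (U2z 11) : Matrix (Fin 8) (Fin 8) F) *ᵥ x) =
    ![x 0,
      x 1 - t * x 3,
      x 2,
      x 3,
      x 4,
      x 5,
      x 6 + t * x 4,
      x 7] := by
  ext i
  rw [aut_mv]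
  fin_cases i <;> simp [U1z, U2z, Fin.sum_univ_succ] <;> ring

theorem aut_case11 (t : F) (x y : Fin 8 → F) :
    ((1 + t • cM (U1z 11) + t ^ 2 • cM (U2z 11) : Matrix (Fin 8) (Fin 8) F) *ᵥ zornMul x y) =
      zornMul ((1 + t • cM (U1z 11) + t ^ 2 • cM (U2z 11) : Matrix (Fin 8) (Fin 8) F) *ᵥ x)
        ((1 + t • cM (U1z 11) + t ^ 2 • cM (U2z 11) : Matrix (Fin 8) (Fin 8) F) *ᵥ y) := by
  rw [aut_mv11, aut_mv11, aut_mv11, aut_zorn, aut_zorn]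
  ext i
  fin_cases i <;> simp <;> ring

/-- [AUTC] -/
theorem uM_aut_c (r : R12) (hr : 8 ≤ r.val) (t : F) (x y : Fin 8 → F) :
    uM r t *ᵥ zornMul x y = zornMul (uM r t *ᵥ x) (uM r t *ᵥ y) := by
  obtain ⟨r, h⟩ := r
  have h12 : r < 12 := by
    have h0 : chevG2.nroots = 12 := by decide +kernel
    omega
  simp only at *
  interval_cases r
  · exact aut_case8 t x y
  · exact aut_case9 t x y
  · exact aut_case10 t x y
  · exact aut_case11 t x y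

end Cfsg.Agent.Lib.Helper90.GI
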