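import Cfsg.Agent.Lib.Helper90.GI.Defs
import Cfsg.Agent.Lib.Helper90.G2S.O7
import Cfsg.Agent.Lib.Helper90.G2S.O8
import Cfsg.Agent.S0242
import Cfsg.Agent.S1059

set_option autoImplicit false

/-! Ladder G2C, rung CARD (helper10). -/

namespace Cfsg.Agent.Lib.Helper90.GI

open Cfsg.Lie Matrix Cfsg.Agent.Lib.Helper90.G2S
open scoped MatrixGroups

variable {F : Type*} [Field F]

theorem card_arith (q s : ℕ) (hq : 2 ≤ q) (h : (q - 1) * s = ∏ i : Fin 3, (q ^ 3 - q ^ (i : ℕ))) :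
    (q ^ 6 + q ^ 3) * s = q ^ 6 * (q ^ 2 - 1) * (q ^ 6 - 1) := by
  rw [Fin.prod_univ_three] at h
  simp only [Fin.val_zero, Fin.val_one, Fin.val_two, pow_zero, pow_one] at h
  have h1 : 1 ≤ q := by omega
  have h2 : 1 ≤ q ^ 2 := Nat.one_le_pow _ _ (by omega)
  have h3 : 1 ≤ q ^ 3 := Nat.one_le_pow _ _ (by omega)
  have h6 : 1 ≤ q ^ 6 := Nat.one_le_pow _ _ (by omega)
  have h4 : q ≤ q ^ 3 := by
    calc q = q ^ 1 := (pow_one q).symm
      _ ≤ q ^ 3 := Nat.pow_le_pow_right (by omega) (by norm_num)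
  have h5 : q ^ 2 ≤ q ^ 3 := Nat.pow_le_pow_right (by omega) (by norm_num)
  zify [h1, h2, h3, h4, h5, h6] at h ⊢
  have hne : (q : ℤ) - 1 ≠ 0 := by
    have : (2 : ℤ) ≤ q := by exact_mod_cast hq
    omega
  apply mul_left_cancel₀ hne
  linear_combination ((q:ℤ) ^ 6 + (q:ℤ) ^ 3) * h

theorem card_eq [Fintype F] : Nat.card (G2 F) = Nat.card (chevG2.group F) := by
  rw [card_G2, card_Idem, Cfsg.Agent.S1059.result rfl]
  exact card_arith _ _ Fintype.one_lt_card (Cfsg.Agent.S0242.result rfl 3 (by norm_num))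

end Cfsg.Agent.Lib.Helper90.GI
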