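import Mathlib

set_option autoImplicit false

namespace Cfsg.Agent.Lib.Helper90.GI

open Matrix
open scoped MatrixGroups

variable {F : Type*} [Field F]

/-- [FIX] -/
theorem fix_zero (s : SpecialLinearGroup (Fin 3) F)
    (h : (1 - (s : Matrix (Fin 3) (Fin 3) F)).det ≠ 0) :
    (∀ a : Fin 3 → F, (s : Matrix (Fin 3) (Fin 3) F) *ᵥ a = a → a = 0) ∧
    (∀ b : Fin 3 → F, ((s⁻¹ : SpecialLinearGroup (Fin 3) F) : Matrix (Fin 3) (Fin 3) F)ᵀ *ᵥ b = b →
      b = 0) := by
  constructor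
  · intro a ha
    apply Matrix.eq_zero_of_mulVec_eq_zero h
    rw [Matrix.sub_mulVec, Matrix.one_mulVec, ha, sub_self]
  · intro b hb
    have h2 : (1 - ((s⁻¹ : SpecialLinearGroup (Fin 3) F) : Matrix (Fin 3) (Fin 3) F)ᵀ).det ≠ 0 := by
      have e1 : (1 - ((s⁻¹ : SpecialLinearGroup (Fin 3) F) : Matrix (Fin 3) (Fin 3) F)ᵀ)
          = (1 - ((s⁻¹ : SpecialLinearGroup (Fin 3) F) : Matrix (Fin 3) (Fin 3) F))ᵀ := by
        rw [Matrix.transpose_sub, Matrix.transpose_one]
      rw [e1, Matrix.det_transpose]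
      have e2 : (s : Matrix (Fin 3) (Fin 3) F) *
          (1 - ((s⁻¹ : SpecialLinearGroup (Fin 3) F) : Matrix (Fin 3) (Fin 3) F))
          = -(1 - (s : Matrix (Fin 3) (Fin 3) F)) := by
        rw [mul_sub, mul_one, ← Matrix.SpecialLinearGroup.coe_mul, mul_inv_cancel,
          Matrix.SpecialLinearGroup.coe_one, neg_sub]
      intro h0
      have h3 := congrArg Matrix.det e2
      rw [Matrix.det_mul, h0, mul_zero, Matrix.det_neg] at h3
      rcases mul_eq_zero.1 h3.symm with h4 | h4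
      · exact absurd h4 (pow_ne_zero _ (neg_ne_zero.2 one_ne_zero))
      · exact h h4
    apply Matrix.eq_zero_of_mulVec_eq_zero h2
    rw [Matrix.sub_mulVec, Matrix.one_mulVec, hb, sub_self]

end Cfsg.Agent.Lib.Helper90.GI
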