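import Mathlib

set_option autoImplicit false

namespace Cfsg.Agent.Lib.Helper90.GI

open Matrix
open scoped MatrixGroups

variable {F : Type*} [Field F]

/-- own copy of [TR], so that this file depends on Mathlib only. -/
theorem noc_tr (s : SpecialLinearGroup (Fin 3) F) :
    (1 - (s : Matrix (Fin 3) (Fin 3) F)).det =
      ((s⁻¹ : SpecialLinearGroup (Fin 3) F) : Matrix (Fin 3) (Fin 3) F).trace -
        (s : Matrix (Fin 3) (Fin 3) F).trace := by
  have hd := s.2
  rw [Matrix.det_fin_three] at hd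
  rw [Matrix.SpecialLinearGroup.coe_inv, Matrix.det_fin_three, Matrix.trace_fin_three,
    Matrix.trace_fin_three, Matrix.adjugate_fin_three]
  simp
  linear_combination (-1) * hd

/-- [NOC] -/
theorem no_conj (s0 s : SpecialLinearGroup (Fin 3) F)
    (h : (1 - (s0 : Matrix (Fin 3) (Fin 3) F)).det ≠ 0) :
    ((s * s0 * s⁻¹ : SpecialLinearGroup (Fin 3) F) : Matrix (Fin 3) (Fin 3) F) ≠
      ((s0⁻¹ : SpecialLinearGroup (Fin 3) F) : Matrix (Fin 3) (Fin 3) F)ᵀ := by
  intro he
  apply h
  rw [noc_tr]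
  have h1 := congrArg Matrix.trace he
  rw [Matrix.trace_transpose] at h1
  have h2 : ((s * s0 * s⁻¹ : SpecialLinearGroup (Fin 3) F) : Matrix (Fin 3) (Fin 3) F).trace
      = (s0 : Matrix (Fin 3) (Fin 3) F).trace := by
    rw [Matrix.SpecialLinearGroup.coe_mul, Matrix.SpecialLinearGroup.coe_mul, Matrix.trace_mul_comm, ← mul_assoc,
      ← Matrix.SpecialLinearGroup.coe_mul, inv_mul_cancel, Matrix.SpecialLinearGroup.coe_one, one_mul]
  rw [← h1, h2, sub_self]

end Cfsg.Agent.Lib.Helper90.GI
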