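import Cfsg.Agent.Lib.Helper90.G2S.O1

set_option autoImplicit false

/-! Ladder G2C, rung TAU (helper10). -/

namespace Cfsg.Agent.Lib.Helper90.GI

open Cfsg.Lie Matrix Cfsg.Agent.Lib.Helper90.G2S
open scoped MatrixGroups

variable {F : Type*} [Field F]

/-- the linear map `[[α,a],[b,β]] ↦ [[β,-b],[-a,α]]` -/
def tauT : (Fin 8 → F) →ₗ[F] (Fin 8 → F) where
  toFun := fun x => ![x 7, -x 4, -x 5, -x 6, -x 1, -x 2, -x 3, x 0]
  map_add' := by
    intro x y
    ext i
    fin_cases i <;> simp <;> ring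
  map_smul' := by
    intro c x
    ext i
    fin_cases i <;> simp

theorem tauT_apply (x : Fin 8 → F) :
    tauT x = ![x 7, -x 4, -x 5, -x 6, -x 1, -x 2, -x 3, x 0] := rfl

theorem tauT_tauT (x : Fin 8 → F) : tauT (tauT x) = x := by
  ext i
  fin_cases i <;> simp [tauT_apply]

theorem tauT_zornMul (x y : Fin 8 → F) : tauT (zornMul x y) = zornMul (tauT x) (tauT y) := by
  ext i
  fin_cases i <;> simp [tauT_apply, zornMul, dot3, cross3] <;> ring

theorem exists_tau : ∃ τ : G2 F, ∀ (α β : F) (a b : Fin 3 → F),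
    act τ (zv α a b β) = zv β (-b) (-a) α := by
  classical
  have hne : ¬ ((-1 : ℤˣ) = 1) := by decide
  obtain ⟨φ, hφ⟩ := exists_hom (F := F) (M := ℤˣ)
    (fun u => if u = 1 then LinearMap.id else tauT)
    (by intro x; simp)
    (by
      intro m m' x
      rcases Int.units_eq_one_or m with rfl | rfl <;>
        rcases Int.units_eq_one_or m' with rfl | rfl <;> simp [hne, tauT_tauT])
    (by
      intro m x y
      rcases Int.units_eq_one_or m with rfl | rfl
      · simp
      · simp [hne, tauT_zornMul])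
  refine ⟨φ (-1), ?_⟩
  intro α β a b
  rw [hφ]
  simp [hne, tauT_apply, zv]

end Cfsg.Agent.Lib.Helper90.GI
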