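import Cfsg.Agent.Lib.Helper90.GI.Defs
import Cfsg.Agent.Lib.Helper90.G2S.O8
import Cfsg.Agent.Lib.Helper90.G2S.T3
import Cfsg.Agent.Lib.Helper90.GI.FIX
import Cfsg.Agent.Lib.Helper90.GI.NOC
import Cfsg.Agent.Lib.Helper90.GI.TAU

set_option autoImplicit false

namespace Cfsg.Agent.Lib.Helper90.GI

open Cfsg.Lie Matrix Cfsg.Agent.Lib.Helper90.G2S
open scoped MatrixGroups

variable {F : Type*} [Field F]

omit [Field F] in
theorem cen_zv_inj2 {α β α' β' : F} {a b a' b' : Fin 3 → F} (h : zv α a b β = zv α' a' b' β') :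
    b = b' := by
  have h1 := congrFun h 4
  have h2 := congrFun h 5
  have h3 := congrFun h 6
  simp [zv] at h1 h2 h3
  ext i
  fin_cases i <;> simp [*]

/-- [CEN] -/
theorem cen_G2 (ι : SpecialLinearGroup (Fin 3) F →* G2 F) (hι : ∀ s, ActsAs (ι s) s)
    (s0 : SpecialLinearGroup (Fin 3) F) (h1 : (1 - (s0 : Matrix (Fin 3) (Fin 3) F)).det ≠ 0)
    (h2 : ∀ s : SpecialLinearGroup (Fin 3) F, Commute s s0 → s ∈ Subgroup.zpowers s0)
    (g : G2 F) (hg : Commute g (ι s0)) : g ∈ Subgroup.zpowers (ι s0) := by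
  have hxf : act (ι s0) (act g e1) = act g e1 := by
    rw [← act_mul, ← hg.eq, act_mul, o8_actsAs_e1 (hι s0)]
  obtain ⟨α, a, b, β, hf⟩ : ∃ (α : F) (a b : Fin 3 → F) (β : F), act g e1 = zv α a b β :=
    ⟨_, _, _, _, o8_eq_zv _⟩
  rw [hf, hι s0] at hxf
  have ha : a = 0 := (fix_zero s0 h1).1 a (o8_zv_inj hxf)
  have hb : b = 0 := (fix_zero s0 h1).2 b (cen_zv_inj2 hxf)
  subst ha hb
  have hmem : zv α 0 0 β ∈ Idem F := by
    rw [← hf]
    exact act_mem_Idem g o8_e1_mem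
  rw [T3_mem_iff] at hmem
  obtain ⟨hs, hp⟩ := hmem
  simp at hp
  have main : ∀ g' : G2 F, act g' e1 = e1 → ∃ s, g' = ι s := by
    intro g' h
    obtain ⟨s, hs⟩ := stab_e1 g' h
    exact ⟨s, o8_actsAs_unique hs (hι s)⟩
  have hinj : Function.Injective ι := by
    intro s s' h
    have h3 := hι s
    rw [h] at h3
    exact o8_actsAs_inj h3 (hι s')
  rcases hp with h0 | h0
  · exfalso
    subst h0
    rw [zero_add] at hs
    subst hs
    obtain ⟨τ, hτ⟩ := exists_tau (F := F)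
    obtain ⟨s, hs⟩ := main (τ * g) (by rw [act_mul, hf, hτ, o8_e1]; simp)
    apply no_conj s0 s h1
    apply Matrix.ext_iff_mulVec.2
    intro a
    have hy : ι (s * s0 * s⁻¹) * τ = τ * ι s0 := by
      rw [map_mul, map_mul, map_inv, ← hs]
      calc τ * g * ι s0 * (τ * g)⁻¹ * τ = τ * (g * ι s0) * g⁻¹ := by group
        _ = τ * (ι s0 * g) * g⁻¹ := by rw [hg.eq]
        _ = τ * ι s0 := by group
    have e := congrArg (fun z => act z (zv 0 0 (-a) 0)) hy
    simp only [act_mul] at e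
    rw [hτ, hι, hι, hτ] at e
    have e2 := o8_zv_inj e
    simpa [Matrix.mulVec_neg] using e2
  · subst h0
    rw [add_zero] at hs
    subst hs
    obtain ⟨s, hs⟩ := main g (by rw [hf, o8_e1])
    have hc : Commute s s0 := by
      apply hinj
      rw [map_mul, map_mul, ← hs]
      exact hg.eq
    obtain ⟨k, hk⟩ := Subgroup.mem_zpowers_iff.1 (h2 s hc)
    rw [hs, ← hk, map_zpow]
    exact Subgroup.zpow_mem_zpowers _ _

end Cfsg.Agent.Lib.Helper90.GI
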