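import Cfsg.Agent.Lib.Helper90.GI.Defs

set_option autoImplicit false
set_option maxRecDepth 1000000

namespace Cfsg.Agent.Lib.Helper90.GI

open Cfsg.Lie Matrix

/-- [CO], root number 5 (kernel computation). -/
theorem co_5 : ∀ c : I14,
    Dz (ix c) = Yz ⟨5, by decide⟩ 0 c ∧
    U1z 5 * Dz (ix c) = Yz ⟨5, by decide⟩ 0 c * U1z 5 + Yz ⟨5, by decide⟩ 1 c ∧
    U2z 5 * Dz (ix c) = Yz ⟨5, by decide⟩ 0 c * U2z 5 + Yz ⟨5, by decide⟩ 1 c * U1z 5 + Yz ⟨5, by decide⟩ 2 c ∧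
    0 = Yz ⟨5, by decide⟩ 1 c * U2z 5 + Yz ⟨5, by decide⟩ 2 c * U1z 5 + Yz ⟨5, by decide⟩ 3 c ∧
    0 = Yz ⟨5, by decide⟩ 2 c * U2z 5 + Yz ⟨5, by decide⟩ 3 c * U1z 5 ∧
    0 = Yz ⟨5, by decide⟩ 3 c * U2z 5 := by decide +kernel

end Cfsg.Agent.Lib.Helper90.GI
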