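import Cfsg.Agent.Lib.Helper90.GI.CO0
import Cfsg.Agent.Lib.Helper90.GI.CO1
import Cfsg.Agent.Lib.Helper90.GI.CO2
import Cfsg.Agent.Lib.Helper90.GI.CO3
import Cfsg.Agent.Lib.Helper90.GI.CO4
import Cfsg.Agent.Lib.Helper90.GI.CO5
import Cfsg.Agent.Lib.Helper90.GI.CO6
import Cfsg.Agent.Lib.Helper90.GI.CO7
import Cfsg.Agent.Lib.Helper90.GI.CO8
import Cfsg.Agent.Lib.Helper90.GI.CO9
import Cfsg.Agent.Lib.Helper90.GI.CO10
import Cfsg.Agent.Lib.Helper90.GI.CO11

set_option autoImplicit false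

namespace Cfsg.Agent.Lib.Helper90.GI

open Cfsg.Lie Matrix

/-- [CO] the coefficient identities of the intertwining relation. -/
theorem coef (r : R12) (c : I14) :
    Dz (ix c) = Yz r 0 c ∧
    U1z r.val * Dz (ix c) = Yz r 0 c * U1z r.val + Yz r 1 c ∧
    U2z r.val * Dz (ix c) = Yz r 0 c * U2z r.val + Yz r 1 c * U1z r.val + Yz r 2 c ∧
    0 = Yz r 1 c * U2z r.val + Yz r 2 c * U1z r.val + Yz r 3 c ∧
    0 = Yz r 2 c * U2z r.val + Yz r 3 c * U1z r.val ∧
    0 = Yz r 3 c * U2z r.val := by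
  obtain ⟨r, hr⟩ := r
  have hr' : r < 12 := hr
  interval_cases r
  · exact co_0 c
  · exact co_1 c
  · exact co_2 c
  · exact co_3 c
  · exact co_4 c
  · exact co_5 c
  · exact co_6 c
  · exact co_7 c
  · exact co_8 c
  · exact co_9 c
  · exact co_10 c
  · exact co_11 c

end Cfsg.Agent.Lib.Helper90.GI
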