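import Mathlib

set_option autoImplicit false

namespace Cfsg.Agent.Lib.Helper90.GI

variable {F : Type*} [Field F]

/-- [POLY] -/
theorem poly_id {A : Type*} [Ring A] [Algebra F A] (t : F) (U1 U2 D Y0 Y1 Y2 Y3 : A)
    (h0 : D = Y0) (h1 : U1 * D = Y0 * U1 + Y1) (h2 : U2 * D = Y0 * U2 + Y1 * U1 + Y2)
    (h3 : 0 = Y1 * U2 + Y2 * U1 + Y3) (h4 : 0 = Y2 * U2 + Y3 * U1) (h5 : 0 = Y3 * U2) :
    (1 + t • U1 + t ^ 2 • U2) * D =
      (Y0 + t • Y1 + t ^ 2 • Y2 + t ^ 3 • Y3) * (1 + t • U1 + t ^ 2 • U2) := by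
  simp only [add_mul, mul_add, smul_mul_assoc, mul_smul_comm, smul_smul, one_mul, mul_one]
  rw [h1, h2]
  have e3 : Y3 = - (Y1 * U2 + Y2 * U1) := by
    have := h3
    exact eq_neg_of_add_eq_zero_right this.symm
  have e4 : Y3 * U1 = - (Y2 * U2) := by
    exact eq_neg_of_add_eq_zero_right h4.symm
  rw [← h5, e4, h0]
  rw [e3]
  module

end Cfsg.Agent.Lib.Helper90.GI
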