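import Cfsg.Agent.Lib.Helper90.GI.Defs

set_option autoImplicit false

namespace Cfsg.Agent.Lib.Helper90.GI

open Cfsg.Lie Matrix
open scoped MatrixGroups

variable {F : Type*} [Field F]

theorem xc_chain (L : List (ℕ × ℤ)) (hL : ∀ km ∈ L, km.1 < 4) (t : F) :
    (L.map fun km => ((km.2 : ℤ) : F) * t ^ km.1).sum =
      ∑ k ∈ Finset.range 4,
        (((L.map fun km => if km.1 = k then km.2 else 0).sum : ℤ) : F) * t ^ k := by
  induction L with
  | nil => simp
  | cons a L ih =>
    have ha : a.1 < 4 := hL a List.mem_cons_self
    rw [List.map_cons, List.sum_cons, ih (fun km h => hL km (List.mem_cons_of_mem _ h))]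
    simp only [List.map_cons, List.sum_cons, Int.cast_add, add_mul, Finset.sum_add_distrib]
    congr 1
    rw [Finset.sum_eq_single a.1]
    · simp
    · intro k _ hk
      simp [Ne.symm hk]
    · intro h
      exact absurd (Finset.mem_range.2 ha) h

theorem xc_bound : ∀ r s u : R12, ∀ km ∈ chevG2.chainCoeff r.val s.val u.val, km.1 < 4 := by
  decide +kernel

/-- [XC] -/
theorem xMat_eq (r : R12) (t : F) (row col : I14) :
    chevG2.xMat F r t row col = ∑ k ∈ Finset.range 4, ((xc r k row col : ℤ) : F) * t ^ k := by
  unfold ChevalleyDatum.xMat xc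
  rw [Matrix.of_apply]
  rcases col with i | s
  · rcases row with i' | u
    · simp only
      split_ifs <;> simp [Finset.sum_range_succ]
    · simp only
      split_ifs <;> simp [Finset.sum_range_succ]
  · rcases row with i' | u
    · simp only
      split_ifs <;> simp [Finset.sum_range_succ]
    · simp only
      split_ifs <;> simp [Finset.sum_range_succ, xc_chain _ (xc_bound r s u) t, add_mul]
        <;> ring

end Cfsg.Agent.Lib.Helper90.GI
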