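import Cfsg.Agent.Lib.Helper90.GI.Defs
import Cfsg.Agent.Lib.Helper90.GI.CO
import Cfsg.Agent.Lib.Helper90.GI.POLY
import Cfsg.Agent.Lib.Helper90.GI.XC

set_option autoImplicit false

namespace Cfsg.Agent.Lib.Helper90.GI

open Cfsg.Lie Matrix

variable {F : Type*} [Field F]

theorem int_cM_Yz (r : R12) (k : ℕ) (c : I14) :
    (cM (Yz r k c) : Matrix (Fin 8) (Fin 8) F) = ∑ row : I14, ((xc r k row c : ℤ) : F) • DF row := by
  unfold Yz DF cM
  rw [map_sum]
  apply Finset.sum_congr rfl
  intro row _
  ext i j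
  simp only [RingHom.mapMatrix_apply, Matrix.map_apply, Matrix.smul_apply, smul_eq_mul,
    Int.coe_castRingHom, Int.cast_mul]

theorem int_sum_eq (r : R12) (t : F) (c : I14) :
    (∑ row : I14, chevG2.xMat F r t row c • (DF row : Matrix (Fin 8) (Fin 8) F)) =
      cM (Yz r 0 c) + t • cM (Yz r 1 c) + t ^ 2 • cM (Yz r 2 c) + t ^ 3 • cM (Yz r 3 c) := by
  simp only [int_cM_Yz, xMat_eq, Finset.sum_range_succ, Finset.sum_range_zero, Finset.smul_sum,
    ← Finset.sum_add_distrib]
  apply Finset.sum_congr rfl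
  intro row _
  simp only [smul_smul, ← add_smul]
  congr 1
  ring

/-- [INT] -/
theorem intertw (r : R12) (t : F) (c : I14) :
    uM r t * DF c = (∑ row : I14, chevG2.xMat F r t row c • DF row) * uM r t := by
  rw [int_sum_eq]
  obtain ⟨h0, h1, h2, h3, h4, h5⟩ := coef r c
  unfold uM DF
  apply poly_id
  · exact congrArg cM h0
  · simpa only [cM, map_mul, map_add, map_zero] using congrArg (cM (F := F)) h1
  · simpa only [cM, map_mul, map_add, map_zero] using congrArg (cM (F := F)) h2
  · simpa only [cM, map_mul, map_add, map_zero] using congrArg (cM (F := F)) h3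
  · simpa only [cM, map_mul, map_add, map_zero] using congrArg (cM (F := F)) h4
  · simpa only [cM, map_mul, map_add, map_zero] using congrArg (cM (F := F)) h5

end Cfsg.Agent.Lib.Helper90.GI
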