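import Cfsg.Agent.Lib.Helper90.GI.Defs

set_option autoImplicit false

namespace Cfsg.Agent.Lib.Helper90.GI

open Cfsg.Lie Matrix
open scoped MatrixGroups

variable {F : Type*} [Field F]

theorem li_tab : ∀ c c' : I14,
    ∑ i, ∑ j, Pz (ix c) i j * Dz (ix c') i j = if c = c' then 1 else 0 := by
  decide +kernel

/-- [LI] -/
theorem DF_li : LinearIndependent F (DF : I14 → Matrix (Fin 8) (Fin 8) F) := by
  classical
  rw [Fintype.linearIndependent_iff]
  intro g hg c
  let φ : Matrix (Fin 8) (Fin 8) F →ₗ[F] F :=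
    ∑ i, ∑ j, ((Pz (ix c) i j : ℤ) : F) • (Matrix.entryLinearMap F F i j)
  have hφ : ∀ M, φ M = ∑ i, ∑ j, ((Pz (ix c) i j : ℤ) : F) * M i j := by
    intro M
    simp [φ, LinearMap.sum_apply]
  have hD : ∀ c', φ (DF c') = if c = c' then 1 else 0 := by
    intro c'
    rw [hφ]
    have h := congrArg (Int.cast : ℤ → F) (li_tab c c')
    push_cast at h
    rw [← h]
    rfl
  have h0 := congrArg φ hg
  rw [map_sum, map_zero] at h0
  simp only [map_smul, hD, smul_eq_mul, mul_ite, mul_one, mul_zero, Finset.sum_ite_eq,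
    Finset.mem_univ, if_true] at h0
  exact h0

end Cfsg.Agent.Lib.Helper90.GI
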