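import Mathlib

set_option autoImplicit false

namespace Cfsg.Agent.Lib.Helper90.GI

variable {F : Type*} [Field F]

theorem sg1_arith (q : ℕ) (hq : 2 ≤ q) : q ^ 3 - 1 = (q - 1) * (q ^ 2 + q + 1) := by
  obtain ⟨m, rfl⟩ : ∃ m, q = m + 1 := ⟨q - 1, by omega⟩
  have : (m + 1) ^ 3 = m * ((m + 1) ^ 2 + (m + 1) + 1) + 1 := by ring
  rw [this]
  simp

/-- [SG1] -/
theorem sg1 [Fintype F] (K : Type*) [Field K] [Algebra F K] [Finite K]
    (h3 : Module.finrank F K = 3) :
    ∃ l : Kˣ, orderOf l = Fintype.card F ^ 2 + Fintype.card F + 1 ∧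
      Algebra.norm F (l : K) = 1 ∧
      (∀ z : K, Algebra.norm F z = 1 → ∃ k : ℕ, z = (l : K) ^ k) ∧
      (l : K) ∉ Set.range (algebraMap F K) := by
  classical
  set q := Fintype.card F with hqdef
  have hq : 2 ≤ q := Fintype.one_lt_card
  have hK : Nat.card K = q ^ 3 := by
    rw [Module.natCard_eq_pow_finrank (K := F) (V := K), h3, Nat.card_eq_fintype_card]
  have hA := sg1_arith q hq
  have hq1 : 0 < q - 1 := by omega
  have hN : 0 < q ^ 2 + q + 1 := by positivity
  have hexp : (Nat.card K - 1) / (Nat.card F - 1) = q ^ 2 + q + 1 := by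
    rw [hK, Nat.card_eq_fintype_card, hA]
    exact Nat.mul_div_cancel_left _ hq1
  have hnorm : ∀ x : K, algebraMap F K (Algebra.norm F x) = x ^ (q ^ 2 + q + 1) := by
    intro x
    rw [FiniteField.algebraMap_norm_eq_pow, hexp]
  obtain ⟨ζ, hζ⟩ := IsCyclic.exists_generator (α := Kˣ)
  have hordζ : orderOf ζ = q ^ 3 - 1 := by
    rw [orderOf_eq_card_of_forall_mem_zpowers hζ, Nat.card_units, hK]
  have hordl : orderOf (ζ ^ (q - 1)) = q ^ 2 + q + 1 := by
    rw [orderOf_pow, hordζ, hA, Nat.gcd_eq_right (Dvd.intro _ rfl)]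
    exact Nat.mul_div_cancel_left _ hq1
  refine ⟨ζ ^ (q - 1), hordl, ?_, ?_, ?_⟩
  · apply (algebraMap F K).injective
    rw [hnorm, map_one, ← Units.val_pow_eq_pow_val, ← hordl, pow_orderOf_eq_one, Units.val_one]
  · intro z hz
    have hz0 : z ≠ 0 := by
      rintro rfl
      have h := hnorm 0
      rw [hz, map_one, zero_pow hN.ne'] at h
      exact one_ne_zero h
    have hzp : z ^ (q ^ 2 + q + 1) = 1 := by
      rw [← hnorm, hz, map_one]
    obtain ⟨j, hj⟩ : ∃ j : ℕ, ζ ^ j = Units.mk0 z hz0 := by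
      have := hζ (Units.mk0 z hz0)
      rw [← mem_powers_iff_mem_zpowers] at this
      exact this
    have h1 : ζ ^ (j * (q ^ 2 + q + 1)) = 1 := by
      rw [pow_mul, hj]
      ext
      simpa using hzp
    have h2 : (q - 1) * (q ^ 2 + q + 1) ∣ j * (q ^ 2 + q + 1) := by
      rw [← hA, ← hordζ]
      exact orderOf_dvd_of_pow_eq_one h1
    obtain ⟨k, hk⟩ := Nat.dvd_of_mul_dvd_mul_right hN h2
    refine ⟨k, ?_⟩
    have h3' : Units.mk0 z hz0 = (ζ ^ (q - 1)) ^ k := by
      rw [← hj, hk, pow_mul]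
    have := congrArg (fun u : Kˣ => (u : K)) h3'
    simpa using this
  · rintro ⟨a, ha⟩
    have ha0 : a ≠ 0 := by
      rintro rfl
      rw [map_zero] at ha
      exact (Units.ne_zero _) ha.symm
    have h1 : a ^ (q - 1) = 1 := FiniteField.pow_card_sub_one_eq_one a ha0
    have h2 : (ζ ^ (q - 1)) ^ (q - 1) = 1 := by
      ext
      rw [Units.val_pow_eq_pow_val, ← ha, ← map_pow, h1, map_one, Units.val_one]
    have h3' := Nat.le_of_dvd hq1 (orderOf_dvd_of_pow_eq_one h2)
    rw [hordl] at h3'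
    have : q ≤ q ^ 2 := by nlinarith
    omega

end Cfsg.Agent.Lib.Helper90.GI
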