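import Mathlib

set_option autoImplicit false

namespace Cfsg.Agent.Lib.Helper90.GI

open IntermediateField

variable {F : Type*} [Field F]

/-- [SG2] -/
theorem sg2 (K : Type*) [Field K] [Algebra F K] (h3 : Module.finrank F K = 3) (l : K)
    (hl : l ∉ Set.range (algebraMap F K)) (m : K →ₗ[F] K) (hm : ∀ z, m (l * z) = l * m z) :
    ∀ z, m z = z * m 1 := by
  have : FiniteDimensional F K := Module.finite_of_finrank_pos (by rw [h3]; norm_num)
  let S : Subalgebra F K :=
    { carrier := {w | ∀ z, m (w * z) = w * m z}
      mul_mem' := by
        intro a b ha hb z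
        rw [mul_assoc, ha, hb, mul_assoc]
      add_mem' := by
        intro a b ha hb z
        rw [add_mul, map_add, ha, hb, add_mul]
      algebraMap_mem' := by
        intro r z
        rw [← Algebra.smul_def, map_smul, Algebra.smul_def] }
  have hlS : l ∈ S := hm
  have hadj : Algebra.adjoin F {l} ≤ S := Algebra.adjoin_le (by simpa using hlS)
  have : IsSimpleOrder (IntermediateField F K) :=
    IntermediateField.isSimpleOrder_of_finrank_prime F K (by rw [h3]; norm_num)
  have htop : F⟮l⟯ = ⊤ := by
    rcases eq_bot_or_eq_top F⟮l⟯ with h | h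
    · exfalso
      rw [IntermediateField.adjoin_simple_eq_bot_iff, IntermediateField.mem_bot] at h
      exact hl h
    · exact h
  have hint : IsIntegral F l := IsIntegral.of_finite F l
  have h1 : Algebra.adjoin F {l} = ⊤ := by
    rw [← IntermediateField.adjoin_simple_toSubalgebra_of_isAlgebraic hint.isAlgebraic, htop,
      IntermediateField.top_toSubalgebra]
  intro z
  have hz : z ∈ S := hadj (h1 ▸ Algebra.mem_top)
  have := hz 1
  rwa [mul_one] at this

end Cfsg.Agent.Lib.Helper90.GI
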