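import Cfsg.Agent.Lib.Helper90.GI.SG1
import Cfsg.Agent.Lib.Helper90.GI.SG2

set_option autoImplicit false

namespace Cfsg.Agent.Lib.Helper90.GI

open Matrix
open scoped MatrixGroups

variable {F : Type*} [Field F]

/-- [SG3] -/
theorem exists_singer [Fintype F] : ∃ s0 : SpecialLinearGroup (Fin 3) F,
    orderOf s0 = Fintype.card F ^ 2 + Fintype.card F + 1 ∧
    (1 - (s0 : Matrix (Fin 3) (Fin 3) F)).det ≠ 0 ∧
    ∀ s : SpecialLinearGroup (Fin 3) F, Commute s s0 → s ∈ Subgroup.zpowers s0 := by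
  classical
  obtain ⟨p, hp⟩ := CharP.exists F
  have hpp : Fact p.Prime := ⟨CharP.char_is_prime F p⟩
  let K := FiniteField.Extension F p 3
  have h3 : Module.finrank F K = 3 := FiniteField.finrank_extension F p 3
  let b : Module.Basis (Fin 3) F K := Module.finBasisOfFinrankEq F K h3
  let M : K →ₐ[F] Matrix (Fin 3) (Fin 3) F := Algebra.leftMulMatrix b
  have hMinj : Function.Injective M := Algebra.leftMulMatrix_injective b
  have hdet : ∀ z : K, (M z).det = Algebra.norm F z := fun z => (Algebra.norm_eq_matrix_det b z).symm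
  obtain ⟨l, hord, hn1, hgen, hnot⟩ := sg1 (F := F) K h3
  let s0 : SpecialLinearGroup (Fin 3) F := ⟨M (l : K), by rw [hdet, hn1]⟩
  have hs0 : (s0 : Matrix (Fin 3) (Fin 3) F) = M (l : K) := rfl
  have hpow : ∀ k : ℕ, ((s0 ^ k : SpecialLinearGroup (Fin 3) F) : Matrix (Fin 3) (Fin 3) F)
      = M ((l : K) ^ k) := by
    intro k
    exact (Matrix.SpecialLinearGroup.coe_pow s0 k).trans (by rw [hs0, map_pow])
  refine ⟨s0, ?_, ?_, ?_⟩
  · rw [← hord]
    rw [orderOf_eq_orderOf_iff]
    intro k
    constructor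
    · intro h
      have h1 : M ((l : K) ^ k) = M 1 := by
        rw [← hpow, h, map_one]
        rfl
      have h2 := hMinj h1
      ext
      simpa using h2
    · intro h
      apply Subtype.ext
      have h1 : ((l : K)) ^ k = 1 := by
        rw [← Units.val_pow_eq_pow_val, h, Units.val_one]
      show ((s0 ^ k : SpecialLinearGroup (Fin 3) F) : Matrix (Fin 3) (Fin 3) F) = _
      rw [hpow, h1, map_one]
      rfl
  · have h1 : (1 - (s0 : Matrix (Fin 3) (Fin 3) F)) = M (1 - (l : K)) := by
      rw [map_sub, map_one]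
    rw [h1, hdet]
    rw [Algebra.norm_ne_zero_iff]
    intro h0
    apply hnot
    refine ⟨1, ?_⟩
    rw [map_one]
    exact sub_eq_zero.mp h0
  · intro s hs
    let m : K →ₗ[F] K := Matrix.toLin b b (s : Matrix (Fin 3) (Fin 3) F)
    have hlm : Matrix.toLin b b (M (l : K)) = Algebra.lmul F K (l : K) := by
      show Matrix.toLin b b (Algebra.leftMulMatrix b (l : K)) = _
      rw [Algebra.leftMulMatrix_apply, Matrix.toLin_toMatrix]
    have hcomm : (s : Matrix (Fin 3) (Fin 3) F) * M (l : K) = M (l : K) * (s : Matrix (Fin 3) (Fin 3) F) := by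
      have := congrArg (fun u : SpecialLinearGroup (Fin 3) F => (u : Matrix (Fin 3) (Fin 3) F)) hs.eq
      simpa [Matrix.SpecialLinearGroup.coe_mul] using this
    have hm : ∀ z, m ((l : K) * z) = (l : K) * m z := by
      intro z
      have h1 : m ∘ₗ (Algebra.lmul F K (l : K)) = (Algebra.lmul F K (l : K)) ∘ₗ m := by
        rw [← hlm, ← Matrix.toLin_mul, ← Matrix.toLin_mul, hcomm]
      have h2 := LinearMap.congr_fun h1 z
      simpa using h2
    have hmz := sg2 (F := F) K h3 (l : K) hnot m hm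
    have hmeq : m = Algebra.lmul F K (m 1) := by
      ext z
      rw [hmz z, mul_comm]
      rfl
    have hsM : (s : Matrix (Fin 3) (Fin 3) F) = M (m 1) := by
      show _ = Algebra.leftMulMatrix b (m 1)
      rw [Algebra.leftMulMatrix_apply, ← hmeq]
      exact (LinearMap.toMatrix_toLin b b _).symm
    have hnm : Algebra.norm F (m 1) = 1 := by
      rw [← hdet, ← hsM]
      exact s.2
    obtain ⟨k, hk⟩ := hgen (m 1) hnm
    refine ⟨(k : ℤ), ?_⟩
    apply Subtype.ext
    show ((s0 ^ (k : ℤ) : SpecialLinearGroup (Fin 3) F) : Matrix (Fin 3) (Fin 3) F) = _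
    rw [zpow_natCast, hpow, ← hk, hsM]

end Cfsg.Agent.Lib.Helper90.GI
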