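import Mathlib

set_option autoImplicit false

namespace Cfsg.Agent.Lib.Helper90.GI

open Matrix
open scoped MatrixGroups

variable {F : Type*} [Field F]

/-- [TR]  `det (1 - s) = tr s⁻¹ - tr s` in `SL₃`. -/
theorem det_one_sub (s : SpecialLinearGroup (Fin 3) F) :
    (1 - (s : Matrix (Fin 3) (Fin 3) F)).det =
      ((s⁻¹ : SpecialLinearGroup (Fin 3) F) : Matrix (Fin 3) (Fin 3) F).trace -
        (s : Matrix (Fin 3) (Fin 3) F).trace := by
  have hd := s.2
  rw [Matrix.det_fin_three] at hd
  rw [Matrix.SpecialLinearGroup.coe_inv, Matrix.adjugate_fin_three, Matrix.det_fin_three,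
    Matrix.trace_fin_three, Matrix.trace_fin_three]
  simp [Matrix.sub_apply]
  linear_combination (-1) * hd

end Cfsg.Agent.Lib.Helper90.GI
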