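import Mathlib

set_option autoImplicit false

/-! Ladder G2C, rung TRANS (helper10). -/

namespace Cfsg.Agent.Lib.Helper90.GI

theorem transport {G G' : Type*} [Group G] [Group G'] (e : G ≃* G') (n : ℕ)
    (h : ∃ H : Subgroup G, IsCyclic H ∧ Nat.card H = n ∧ Subgroup.centralizer (H : Set G) = H) :
    ∃ H : Subgroup G', IsCyclic H ∧ Nat.card H = n ∧ Subgroup.centralizer (H : Set G') = H := by
  obtain ⟨H, hc, hn, hC⟩ := h
  refine ⟨H.map e.toMonoidHom, ?_, ?_, ?_⟩
  · exact isCyclic_of_surjective (e.subgroupMap H) (e.subgroupMap H).surjective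
  · rw [← hn]
    exact (Nat.card_congr (e.subgroupMap H).toEquiv).symm
  · ext y
    constructor
    · intro hy
      rw [Subgroup.mem_centralizer_iff] at hy
      have h1 : e.symm y ∈ Subgroup.centralizer (H : Set G) := by
        rw [Subgroup.mem_centralizer_iff]
        intro x hx
        have := hy (e x) ⟨x, hx, rfl⟩
        apply e.injective
        simpa using this
      rw [hC] at h1
      exact ⟨e.symm y, h1, by simp⟩
    · rintro ⟨x, hx, rfl⟩
      rw [Subgroup.mem_centralizer_iff]
      rintro _ ⟨x', hx', rfl⟩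
      have h1 : x ∈ Subgroup.centralizer (H : Set G) := by rw [hC]; exact hx
      rw [Subgroup.mem_centralizer_iff] at h1
      have := h1 x' hx'
      show e x' * e x = e x * e x'
      rw [← map_mul, ← map_mul, this]

end Cfsg.Agent.Lib.Helper90.GI
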