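import Cfsg.Agent.Lib.Helper90.GI.Defs

set_option autoImplicit false

namespace Cfsg.Agent.Lib.Helper90.GI

open Cfsg.Lie Matrix
open scoped MatrixGroups

variable {F : Type*} [Field F]

theorem uinv_tab : ∀ r : R12, U1z r.val * U1z r.val = 2 • U2z r.val ∧ U1z r.val * U2z r.val = 0 ∧
    U2z r.val * U1z r.val = 0 ∧ U2z r.val * U2z r.val = 0 := by
  decide +kernel

/-- [UINV] -/
theorem uM_mul_neg (r : R12) (t : F) : uM r t * uM r (-t) = 1 := by
  obtain ⟨h1, h2, h3, h4⟩ := uinv_tab r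
  have hAA : (cM (U1z r.val) : Matrix (Fin 8) (Fin 8) F) * cM (U1z r.val)
      = (2 : F) • cM (U2z r.val) := by
    unfold cM
    rw [← map_mul, h1, map_nsmul, ← Nat.cast_smul_eq_nsmul F]
    norm_num
  have hAB : (cM (U1z r.val) : Matrix (Fin 8) (Fin 8) F) * cM (U2z r.val) = 0 := by
    unfold cM
    rw [← map_mul, h2, map_zero]
  have hBA : (cM (U2z r.val) : Matrix (Fin 8) (Fin 8) F) * cM (U1z r.val) = 0 := by
    unfold cM
    rw [← map_mul, h3, map_zero]
  have hBB : (cM (U2z r.val) : Matrix (Fin 8) (Fin 8) F) * cM (U2z r.val) = 0 := by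
    unfold cM
    rw [← map_mul, h4, map_zero]
  unfold uM
  simp only [mul_add, add_mul, smul_mul_smul_comm, mul_one, one_mul, hAA, hAB, hBA, hBB, smul_zero,
    add_zero]
  module

end Cfsg.Agent.Lib.Helper90.GI
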