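import Cfsg.Agent.Lib.Helper90.GI.Defs
import Cfsg.Agent.Lib.Helper90.GI.CO
import Cfsg.Agent.Lib.Helper90.GI.POLY
import Cfsg.Agent.Lib.Helper90.GI.XC
import Cfsg.Agent.Lib.Helper90.GI.INT
import Cfsg.Agent.Lib.Helper90.GI.UINV
import Cfsg.Agent.Lib.Helper90.GI.AUTA
import Cfsg.Agent.Lib.Helper90.GI.AUTB
import Cfsg.Agent.Lib.Helper90.GI.AUTC
import Cfsg.Agent.Lib.Helper90.GI.LI
import Cfsg.Agent.Lib.Helper90.GI.ABS
import Cfsg.Agent.Lib.Helper90.GI.CARD
import Cfsg.Agent.Lib.Helper90.GI.TAU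
import Cfsg.Agent.Lib.Helper90.GI.TR
import Cfsg.Agent.Lib.Helper90.GI.FIX
import Cfsg.Agent.Lib.Helper90.GI.NOC
import Cfsg.Agent.Lib.Helper90.GI.SG1
import Cfsg.Agent.Lib.Helper90.GI.SG2
import Cfsg.Agent.Lib.Helper90.GI.SG3
import Cfsg.Agent.Lib.Helper90.GI.CEN
import Cfsg.Agent.Lib.Helper90.GI.TRANS
import Cfsg.Agent.Lib.Helper90.G2S.O4
import Cfsg.Agent.Lib.Helper90.G2S.O8

set_option autoImplicit false

namespace Cfsg.Agent.Lib.Helper90.GI

open Cfsg.Lie Matrix Cfsg.Agent.Lib.Helper90.G2S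
open scoped MatrixGroups

variable {F : Type*} [Field F]

theorem uM_aut (r : R12) (t : F) (x y : Fin 8 → F) :
    uM r t *ᵥ zornMul x y = zornMul (uM r t *ᵥ x) (uM r t *ᵥ y) := by
  rcases lt_or_ge r.val 4 with h | h
  · exact uM_aut_a r h t x y
  · rcases lt_or_ge r.val 8 with h' | h'
    · exact uM_aut_b r h h' t x y
    · exact uM_aut_c r h' t x y

/-- the root elements as units. -/
def uG (r : R12) (t : F) : GL (Fin 8) F :=
  ⟨uM r t, uM r (-t), uM_mul_neg r t, by simpa using uM_mul_neg r (-t)⟩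

theorem uG_mem (r : R12) (t : F) : uG r t ∈ G2 F := by
  intro x y
  exact uM_aut r t x y

theorem exists_iso [Fintype F] : Nonempty (G2 F ≃* chevG2.group F) :=
  abs_iso (F := F) DF DF_li uG (fun r t => chevG2.xMat F r t) (fun r t c => intertw r t c)
    (G2 F) uG_mem (chevG2.group F) rfl card_eq

theorem oct_main [Fintype F] : ∃ H : Subgroup (G2 F), IsCyclic H ∧
    Nat.card H = Fintype.card F ^ 2 + Fintype.card F + 1 ∧
    Subgroup.centralizer (H : Set (G2 F)) = H := by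
  obtain ⟨ι, hι⟩ := exists_iota (F := F)
  obtain ⟨s0, ho, hd, hc⟩ := exists_singer (F := F)
  have hinj : Function.Injective ι := fun s s' h => o8_actsAs_inj (hι s) (h ▸ hι s')
  refine ⟨Subgroup.zpowers (ι s0), inferInstance, ?_, ?_⟩
  · rw [Nat.card_zpowers, orderOf_injective ι hinj, ho]
  · apply le_antisymm
    · intro g hg
      apply cen_G2 ι hι s0 hd hc g
      have := (Subgroup.mem_centralizer_iff.1 hg) (ι s0) (Subgroup.mem_zpowers _)
      exact this.symm
    · intro g hg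
      rw [Subgroup.mem_centralizer_iff]
      intro h hh
      obtain ⟨i, rfl⟩ := hg
      obtain ⟨j, rfl⟩ := hh
      exact (zpow_mul_comm _ _ _)

theorem final [Fintype F] : ∃ H : Subgroup ↥(chevG2.group F), IsCyclic ↥H ∧
    Nat.card ↥H = Fintype.card F ^ 2 + Fintype.card F + 1 ∧
    Subgroup.centralizer (H : Set ↥(chevG2.group F)) = H := by
  obtain ⟨e⟩ := exists_iso (F := F)
  exact transport e _ oct_main

end Cfsg.Agent.Lib.Helper90.GI
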